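import Mathlib

/-!
# Counting on circles `u² + v² = c` over a finite field of odd order

The main result `exists_good` : on every circle of non-zero radius, every non-constant affine
function takes a value `τ` such that `4 - τ²` is not a non-zero square.
-/

set_option autoImplicit false

namespace Cfsg.Agent.Lib.H5.OddGraph

open Finset Polynomial

variable {F : Type*} [Field F] [Fintype F] [DecidableEq F]

/-- the circle `u² + v² = c` -/
def circ (c : F) : Finset (F × F) := univ.filter (fun p => p.1 ^ 2 + p.2 ^ 2 = c)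

omit [DecidableEq F] in
theorem mem_circ [DecidableEq F] {c : F} {p : F × F} : p ∈ circ c ↔ p.1 ^ 2 + p.2 ^ 2 = c := by
  simp [circ]

omit [DecidableEq F] in
theorem exists_sq_add_sq (hodd : Fintype.card F % 2 = 1) (k : F) : ∃ a b : F, a ^ 2 + b ^ 2 = k := by
  obtain ⟨a, b, hab⟩ := FiniteField.exists_root_sum_quadratic (R := F) (f := X ^ 2) (g := X ^ 2 - C k)
    (degree_X_pow 2) (degree_X_pow_sub_C (by decide) _) hodd
  refine ⟨a, b, ?_⟩
  simp only [eval_pow, eval_X, eval_sub, eval_C] at hab
  linear_combination hab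

/-- all circles of non-zero radius have the same number of points -/
theorem card_circ_le (hodd : Fintype.card F % 2 = 1) {c c' : F} (hc : c ≠ 0) (hc' : c' ≠ 0) :
    (circ c).card ≤ (circ c').card := by
  obtain ⟨a, b, hab⟩ := exists_sq_add_sq hodd (c' / c)
  have hk : a ^ 2 + b ^ 2 ≠ 0 := by
    rw [hab]
    exact div_ne_zero hc' hc
  apply Finset.card_le_card_of_injOn (fun p => (a * p.1 - b * p.2, a * p.2 + b * p.1))
  · intro p hp
    rw [mem_coe, mem_circ] at hp ⊢
    have : (a * p.1 - b * p.2) ^ 2 + (a * p.2 + b * p.1) ^ 2 = (a ^ 2 + b ^ 2) * (p.1 ^ 2 + p.2 ^ 2) := by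
      ring
    rw [this, hab, hp]
    field_simp
  · intro p _ q _ h
    simp only [Prod.mk.injEq] at h
    obtain ⟨h1, h2⟩ := h
    have e1 : (a ^ 2 + b ^ 2) * p.1 = (a ^ 2 + b ^ 2) * q.1 := by linear_combination a * h1 + b * h2
    have e2 : (a ^ 2 + b ^ 2) * p.2 = (a ^ 2 + b ^ 2) * q.2 := by linear_combination a * h2 - b * h1
    exact Prod.ext (mul_left_cancel₀ hk e1) (mul_left_cancel₀ hk e2)

/-- the bad traces: `4 - τ²` is a non-zero square -/
def bad : Finset F := univ.filter (fun τ => ∃ s : F, s ≠ 0 ∧ s ^ 2 = 4 - τ ^ 2)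

omit [DecidableEq F] in
theorem mem_bad [DecidableEq F] {τ : F} : τ ∈ bad ↔ ∃ s : F, s ≠ 0 ∧ s ^ 2 = 4 - τ ^ 2 := by
  simp [bad]

theorem two_mul_card_bad_add_two_le (h2 : (2 : F) ≠ 0) :
    2 * (bad (F := F)).card + 2 ≤ (circ (4 : F)).card := by
  classical
  have hch : ∀ τ : F, ∃ s : F, τ ∈ bad → s ≠ 0 ∧ s ^ 2 = 4 - τ ^ 2 := by
    intro τ
    by_cases h : τ ∈ bad
    · obtain ⟨s, hs⟩ := mem_bad.mp h
      exact ⟨s, fun _ => hs⟩
    · exact ⟨0, fun h' => absurd h' h⟩
  choose s hs using hch
  set A : Finset (F × F) := bad.image (fun τ => (τ, s τ)) with hA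
  set B : Finset (F × F) := bad.image (fun τ => (τ, - s τ)) with hB
  set Cc : Finset (F × F) := {((2 : F), (0 : F)), ((-2 : F), (0 : F))} with hCc
  have hAc : A.card = (bad (F := F)).card := by
    apply Finset.card_image_of_injective
    intro x y h
    exact (Prod.mk.injEq _ _ _ _ ▸ h).1
  have hBc : B.card = (bad (F := F)).card := by
    apply Finset.card_image_of_injective
    intro x y h
    exact (Prod.mk.injEq _ _ _ _ ▸ h).1
  have hCcc : Cc.card = 2 := by
    rw [hCc]
    apply Finset.card_pair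
    intro h
    have h' := (Prod.mk.injEq _ _ _ _ ▸ h).1
    apply h2
    have h4 : (2 : F) * 2 = 0 := by linear_combination h'
    rcases mul_eq_zero.mp h4 with h | h <;> exact h
  have hAB : Disjoint A B := by
    rw [Finset.disjoint_left]
    intro p hpA hpB
    obtain ⟨x, hx, rfl⟩ := Finset.mem_image.mp hpA
    obtain ⟨y, hy, hxy⟩ := Finset.mem_image.mp hpB
    simp only [Prod.mk.injEq] at hxy
    obtain ⟨rfl, h⟩ := hxy
    apply (hs y hy).1
    have : (2 : F) * s y = 0 := by linear_combination -h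
    rcases mul_eq_zero.mp this with h | h
    · exact absurd h h2
    · exact h
  have hAC : Disjoint (A ∪ B) Cc := by
    rw [Finset.disjoint_left]
    intro p hp hpC
    have hp2 : p.2 = 0 := by
      rw [hCc] at hpC
      rcases Finset.mem_insert.mp hpC with h | h
      · rw [h]
      · rw [Finset.mem_singleton.mp h]
    rcases Finset.mem_union.mp hp with h | h
    · obtain ⟨x, hx, rfl⟩ := Finset.mem_image.mp h
      exact (hs x hx).1 hp2
    · obtain ⟨x, hx, rfl⟩ := Finset.mem_image.mp h
      exact (hs x hx).1 (neg_eq_zero.mp hp2)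
  have hsub : A ∪ B ∪ Cc ⊆ circ (4 : F) := by
    intro p hp
    rw [mem_circ]
    rcases Finset.mem_union.mp hp with h | h
    · rcases Finset.mem_union.mp h with h | h
      · obtain ⟨x, hx, rfl⟩ := Finset.mem_image.mp h
        have := (hs x hx).2
        simp only
        linear_combination this
      · obtain ⟨x, hx, rfl⟩ := Finset.mem_image.mp h
        have := (hs x hx).2
        simp only
        linear_combination this
    · rw [hCc] at h
      rcases Finset.mem_insert.mp h with h | h
      · rw [h]; simp only; ring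
      · rw [Finset.mem_singleton.mp h]; simp only; ring
  have hcard := Finset.card_le_card hsub
  rw [Finset.card_union_of_disjoint hAC, Finset.card_union_of_disjoint hAB, hAc, hBc, hCcc] at hcard
  omega

/-- a line meets a circle of non-zero radius in at most two points -/
theorem card_filter_line_le_two (h2 : (2 : F) ≠ 0) {c : F} (hc : c ≠ 0) {α β : F} (hβ : β ≠ 0)
    (k : F) : ((circ c).filter (fun p => α * p.1 + β * p.2 = k)).card ≤ 2 := by
  by_contra hlt
  rw [not_le, Finset.two_lt_card] at hlt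
  obtain ⟨p1, hp1, p2, hp2, p3, hp3, h12, h13, h23⟩ := hlt
  simp only [Finset.mem_filter, mem_circ] at hp1 hp2 hp3
  obtain ⟨hc1, hl1⟩ := hp1
  obtain ⟨hc2, hl2⟩ := hp2
  obtain ⟨hc3, hl3⟩ := hp3
  -- distinct first coordinates
  have hu : ∀ p q : F × F, α * p.1 + β * p.2 = k → α * q.1 + β * q.2 = k → p ≠ q → p.1 ≠ q.1 := by
    intro p q hp hq hne h
    apply hne
    have : β * p.2 = β * q.2 := by rw [h] at hp; linear_combination hp - hq
    exact Prod.ext h (mul_left_cancel₀ hβ this)
  have hu12 := hu p1 p2 hl1 hl2 h12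
  have hu13 := hu p1 p3 hl1 hl3 h13
  have hu23 := hu p2 p3 hl2 hl3 h23
  -- the quadratic
  have hq : ∀ p : F × F, p.1 ^ 2 + p.2 ^ 2 = c → α * p.1 + β * p.2 = k →
      (α ^ 2 + β ^ 2) * p.1 ^ 2 - 2 * k * α * p.1 + (k ^ 2 - β ^ 2 * c) = 0 := by
    intro p hpc hpl
    have hv : β * p.2 = k - α * p.1 := by linear_combination hpl
    have : β ^ 2 * p.1 ^ 2 + (β * p.2) ^ 2 = β ^ 2 * c := by rw [← hpc]; ring
    rw [hv] at this
    linear_combination this
  have q1 := hq p1 hc1 hl1
  have q2 := hq p2 hc2 hl2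
  have q3 := hq p3 hc3 hl3
  have e12 : (α ^ 2 + β ^ 2) * (p1.1 + p2.1) = 2 * k * α := by
    have : (p1.1 - p2.1) * ((α ^ 2 + β ^ 2) * (p1.1 + p2.1) - 2 * k * α) = 0 := by
      linear_combination q1 - q2
    rcases mul_eq_zero.mp this with h | h
    · exact absurd (sub_eq_zero.mp h) hu12
    · linear_combination h
  have e13 : (α ^ 2 + β ^ 2) * (p1.1 + p3.1) = 2 * k * α := by
    have : (p1.1 - p3.1) * ((α ^ 2 + β ^ 2) * (p1.1 + p3.1) - 2 * k * α) = 0 := by
      linear_combination q1 - q3
    rcases mul_eq_zero.mp this with h | h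
    · exact absurd (sub_eq_zero.mp h) hu13
    · linear_combination h
  have hA : α ^ 2 + β ^ 2 = 0 := by
    have : (α ^ 2 + β ^ 2) * (p2.1 - p3.1) = 0 := by linear_combination e12 - e13
    rcases mul_eq_zero.mp this with h | h
    · exact h
    · exact absurd (sub_eq_zero.mp h) hu23
  have hα : α ≠ 0 := by
    rintro rfl
    apply hβ
    have : β ^ 2 = 0 := by linear_combination hA
    exact pow_eq_zero_iff (two_ne_zero) |>.mp this
  have hk : k = 0 := by
    rw [hA, zero_mul] at e12
    have : 2 * (k * α) = 0 := by linear_combination -e12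
    rcases mul_eq_zero.mp this with h | h
    · exact absurd h h2
    · rcases mul_eq_zero.mp h with h | h
      · exact h
      · exact absurd h hα
  rw [hA, hk] at q1
  have : β ^ 2 * c = 0 := by linear_combination -q1
  rcases mul_eq_zero.mp this with h | h
  · exact hβ (pow_eq_zero_iff (two_ne_zero) |>.mp h)
  · exact hc h

theorem card_filter_line_le_two' (h2 : (2 : F) ≠ 0) {c : F} (hc : c ≠ 0) {α β : F}
    (hαβ : α ≠ 0 ∨ β ≠ 0) (k : F) :
    ((circ c).filter (fun p => α * p.1 + β * p.2 = k)).card ≤ 2 := by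
  rcases hαβ with hα | hβ
  · refine le_trans ?_ (card_filter_line_le_two h2 hc (α := β) (β := α) hα k)
    apply Finset.card_le_card_of_injOn Prod.swap
    · intro p hp
      simp only [Finset.coe_filter, Set.mem_ofPred_eq, mem_circ] at hp ⊢
      obtain ⟨hp1, hp2⟩ := hp
      refine ⟨?_, ?_⟩
      · rw [Prod.fst_swap, Prod.snd_swap]; linear_combination hp1
      · rw [Prod.fst_swap, Prod.snd_swap]; linear_combination hp2
    · intro p _ q _ h
      exact Prod.swap_injective h
  · exact card_filter_line_le_two h2 hc hβ k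

/-- **Main counting lemma.** -/
theorem exists_good (hodd : Fintype.card F % 2 = 1) (h2 : (2 : F) ≠ 0) {δ : F} (hδ : δ ≠ 0)
    {α β : F} (hαβ : α ≠ 0 ∨ β ≠ 0) (γ : F) :
    ∃ u v : F, u ^ 2 + v ^ 2 = δ ∧ ¬ ∃ s : F, s ≠ 0 ∧ s ^ 2 = 4 - (α * u + β * v + γ) ^ 2 := by
  classical
  set S := circ δ with hS
  set I := S.image (fun p => α * p.1 + β * p.2 + γ) with hI
  have h1 : S.card ≤ 2 * I.card := by
    apply Finset.card_le_mul_card_image
    intro t _
    have : S.filter (fun p => α * p.1 + β * p.2 + γ = t) =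
        S.filter (fun p => α * p.1 + β * p.2 = t - γ) := by
      apply Finset.filter_congr
      intro p _
      constructor
      · intro h; linear_combination h
      · intro h; linear_combination h
    rw [this]
    exact card_filter_line_le_two' h2 hδ hαβ _
  have h4 : (4 : F) ≠ 0 := by
    have : (4 : F) = 2 * 2 := by norm_num
    rw [this]
    exact mul_ne_zero h2 h2
  have h3 : (circ (4 : F)).card ≤ S.card := card_circ_le hodd h4 hδ
  have h5 := two_mul_card_bad_add_two_le (F := F) h2
  have hlt : (bad (F := F)).card < I.card := by omega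
  obtain ⟨t, htI, htb⟩ := Finset.exists_mem_notMem_of_card_lt_card hlt
  obtain ⟨p, hp, rfl⟩ := Finset.mem_image.mp htI
  refine ⟨p.1, p.2, mem_circ.mp hp, ?_⟩
  intro h
  exact htb (mem_bad.mpr h)

end Cfsg.Agent.Lib.H5.OddGraph
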