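import Mathlib
import Cfsg.Agent.Lib.H5.PSL2Spectrum
import Cfsg.Agent.Lib.H5.KleinCount

/-!
# The odd-product relation on involutions of `PSL₂(q)`, `q` even
-/

set_option autoImplicit false
set_option linter.style.haveILetI false

namespace Cfsg.Agent.Lib.H5.OddGraph

open Matrix Cfsg.Agent.Lib.H5.PSL2Torus Cfsg.Agent.Lib.H12 Cfsg.Agent.Lib.H5.DicksonTwo

variable {F : Type*} [Field F] [Fintype F]

local notation "SL2" => Matrix.SpecialLinearGroup (Fin 2) F
local notation "M2" => Matrix (Fin 2) (Fin 2) F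
local notation "PSL2" => Matrix.ProjectiveSpecialLinearGroup (Fin 2) F

theorem even_card_of_two (h2 : (2 : F) = 0) : Even (Fintype.card F) := by
  haveI : CharP F 2 := charP_two h2
  haveI : Fact (Nat.Prime 2) := ⟨Nat.prime_two⟩
  exact even_iff_two_dvd.mpr (Cfsg.Agent.Lib.H5.PSL2DihOddMax.char_dvd_card 2)

/-- elements of non-zero trace have odd order -/
theorem odd_orderOf_of_trace_ne (h2 : (2 : F) = 0) (g : SL2) (ht : (g : M2).trace ≠ 0) :
    Odd (orderOf g) := by
  obtain ⟨-, hc⟩ := regular_centralizer2 h2 g ht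
  have hd : orderOf g ∣ Nat.card (Subgroup.centralizer ({g} : Set SL2)) := by
    have := orderOf_dvd_natCard (⟨g, Subgroup.mem_centralizer_singleton_iff.mpr rfl⟩ :
      Subgroup.centralizer ({g} : Set SL2))
    rwa [Subgroup.orderOf_mk] at this
  have he := even_card_of_two h2
  have hpos : 0 < Fintype.card F := Fintype.card_pos
  have hodd : Odd (Nat.card (Subgroup.centralizer ({g} : Set SL2))) := by
    obtain ⟨k, hk⟩ := he
    rcases hc with h | h
    · rw [h, Nat.odd_iff]; omega
    · rw [h, Nat.odd_iff]; omega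
  exact Odd.of_dvd_nat hodd hd

theorem trace_zero_of_orderOf_two (h2 : (2 : F) = 0) (g : SL2) (hg : orderOf g = 2) :
    (g : M2).trace = 0 := by
  by_contra ht
  have := odd_orderOf_of_trace_ne h2 g ht
  rw [hg] at this
  exact absurd this (by decide)

theorem orderOf_two_of_trace_zero (h2 : (2 : F) = 0) (g : SL2) (ht : (g : M2).trace = 0)
    (h1 : g ≠ 1) : orderOf g = 2 :=
  Cfsg.Agent.Lib.H5.KleinCount.orderOf_of_mul_self (mul_self_of_trace h2 g ht) h1

theorem orderOf_pr_two (h2 : (2 : F) = 0) (g : SL2) : orderOf (pr g) = orderOf g :=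
  orderOf_injective _ (Cfsg.Agent.Lib.H5.PSL2Spectrum.pr_injective_two h2) g

/-- the three candidates -/
def C1 : SL2 := ⟨!![1, 1; 0, 1], by simp [Matrix.det_fin_two]⟩

def C2 : SL2 := ⟨!![1, 0; 1, 1], by simp [Matrix.det_fin_two]⟩

def C3 (h2 : (2 : F) = 0) : SL2 := ⟨!![0, 1; 1, 0], by
  rw [Matrix.det_fin_two_of]; linear_combination (-1 : F) * h2⟩

omit [Fintype F] in
theorem offdiag_ne (h2 : (2 : F) = 0) (A : SL2) (hA : A ≠ 1) (ht : (A : M2).trace = 0) :
    (A : M2) 0 1 ≠ 0 ∨ (A : M2) 1 0 ≠ 0 := by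
  by_contra hcon
  push Not at hcon
  obtain ⟨h01, h10⟩ := hcon
  have hdet := A.det_coe
  rw [Matrix.det_fin_two, h01, h10] at hdet
  rw [Matrix.trace_fin_two] at ht
  have h11 : (A : M2) 1 1 = (A : M2) 0 0 := by
    have : (A : M2) 1 1 = -(A : M2) 0 0 := by linear_combination ht
    rw [this, neg_eq h2]
  rw [h11] at hdet
  have h00 : (A : M2) 0 0 = 1 := eq_one_of_sq h2 (by linear_combination hdet)
  apply hA
  apply Subtype.ext
  ext i j
  fin_cases i <;> fin_cases j
  · simpa using h00
  · simpa using h01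
  · simpa using h10
  · simpa using h11.trans h00

omit [Fintype F] in
theorem trace_mul_C1 (A : SL2) (ht : (A : M2).trace = 0) :
    ((A * C1 : SL2) : M2).trace = (A : M2) 1 0 := by
  rw [Matrix.trace_fin_two] at ht
  rw [Matrix.SpecialLinearGroup.coe_mul, Matrix.trace_fin_two]
  simp only [C1, Matrix.mul_apply, Fin.sum_univ_two, Matrix.of_apply, Matrix.cons_val',
    Matrix.cons_val_zero, Matrix.cons_val_one, Matrix.cons_val_fin_one]
  linear_combination ht

omit [Fintype F] in
theorem trace_C1_mul (A : SL2) (ht : (A : M2).trace = 0) :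
    ((C1 * A : SL2) : M2).trace = (A : M2) 1 0 := by
  rw [Matrix.trace_fin_two] at ht
  rw [Matrix.SpecialLinearGroup.coe_mul, Matrix.trace_fin_two]
  simp only [C1, Matrix.mul_apply, Fin.sum_univ_two, Matrix.of_apply, Matrix.cons_val',
    Matrix.cons_val_zero, Matrix.cons_val_one, Matrix.cons_val_fin_one]
  linear_combination ht

omit [Fintype F] in
theorem trace_mul_C2 (A : SL2) (ht : (A : M2).trace = 0) :
    ((A * C2 : SL2) : M2).trace = (A : M2) 0 1 := by
  rw [Matrix.trace_fin_two] at ht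
  rw [Matrix.SpecialLinearGroup.coe_mul, Matrix.trace_fin_two]
  simp only [C2, Matrix.mul_apply, Fin.sum_univ_two, Matrix.of_apply, Matrix.cons_val',
    Matrix.cons_val_zero, Matrix.cons_val_one, Matrix.cons_val_fin_one]
  linear_combination ht

omit [Fintype F] in
theorem trace_C2_mul (A : SL2) (ht : (A : M2).trace = 0) :
    ((C2 * A : SL2) : M2).trace = (A : M2) 0 1 := by
  rw [Matrix.trace_fin_two] at ht
  rw [Matrix.SpecialLinearGroup.coe_mul, Matrix.trace_fin_two]
  simp only [C2, Matrix.mul_apply, Fin.sum_univ_two, Matrix.of_apply, Matrix.cons_val',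
    Matrix.cons_val_zero, Matrix.cons_val_one, Matrix.cons_val_fin_one]
  linear_combination ht

omit [Fintype F] in
theorem trace_mul_C3 (h2 : (2 : F) = 0) (A : SL2) :
    ((A * C3 h2 : SL2) : M2).trace = (A : M2) 0 1 + (A : M2) 1 0 := by
  rw [Matrix.SpecialLinearGroup.coe_mul, Matrix.trace_fin_two]
  simp only [C3, Matrix.mul_apply, Fin.sum_univ_two, Matrix.of_apply, Matrix.cons_val',
    Matrix.cons_val_zero, Matrix.cons_val_one, Matrix.cons_val_fin_one]
  ring

omit [Fintype F] in
theorem trace_C3_mul (h2 : (2 : F) = 0) (A : SL2) :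
    ((C3 h2 * A : SL2) : M2).trace = (A : M2) 0 1 + (A : M2) 1 0 := by
  rw [Matrix.SpecialLinearGroup.coe_mul, Matrix.trace_fin_two]
  simp only [C3, Matrix.mul_apply, Fin.sum_univ_two, Matrix.of_apply, Matrix.cons_val',
    Matrix.cons_val_zero, Matrix.cons_val_one, Matrix.cons_val_fin_one]
  ring

/-- the common neighbour at the level of `SL₂(q)`, `q` even -/
theorem exists_common_even (h2 : (2 : F) = 0) (A B : SL2) (hA : A ≠ 1) (hB : B ≠ 1)
    (hAt : (A : M2).trace = 0) (hBt : (B : M2).trace = 0) :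
    ∃ C : SL2, C ≠ 1 ∧ (C : M2).trace = 0 ∧ ((A * C : SL2) : M2).trace ≠ 0 ∧
      ((C * B : SL2) : M2).trace ≠ 0 := by
  have hC1 : (C1 : SL2) ≠ 1 := by
    intro h
    have := congrArg (fun g : SL2 => (g : M2) 0 1) h
    simp [C1] at this
  have hC2 : (C2 : SL2) ≠ 1 := by
    intro h
    have := congrArg (fun g : SL2 => (g : M2) 1 0) h
    simp [C2] at this
  have hC3 : (C3 h2 : SL2) ≠ 1 := by
    intro h
    have := congrArg (fun g : SL2 => (g : M2) 0 1) h
    simp [C3] at this
  have hC1t : ((C1 : SL2) : M2).trace = 0 := by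
    simp only [C1, Matrix.trace_fin_two, Matrix.of_apply, Matrix.cons_val', Matrix.cons_val_zero,
      Matrix.cons_val_one, Matrix.cons_val_fin_one]
    linear_combination h2
  have hC2t : ((C2 : SL2) : M2).trace = 0 := by
    simp only [C2, Matrix.trace_fin_two, Matrix.of_apply, Matrix.cons_val', Matrix.cons_val_zero,
      Matrix.cons_val_one, Matrix.cons_val_fin_one]
    linear_combination h2
  have hC3t : ((C3 h2 : SL2) : M2).trace = 0 := by
    simp [C3, Matrix.trace_fin_two]
  have hAo := offdiag_ne h2 A hA hAt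
  have hBo := offdiag_ne h2 B hB hBt
  by_cases h1 : (A : M2) 1 0 ≠ 0 ∧ (B : M2) 1 0 ≠ 0
  · exact ⟨C1, hC1, hC1t, by rw [trace_mul_C1 A hAt]; exact h1.1,
      by rw [trace_C1_mul B hBt]; exact h1.2⟩
  by_cases h1' : (A : M2) 0 1 ≠ 0 ∧ (B : M2) 0 1 ≠ 0
  · exact ⟨C2, hC2, hC2t, by rw [trace_mul_C2 A hAt]; exact h1'.1,
      by rw [trace_C2_mul B hBt]; exact h1'.2⟩
  refine ⟨C3 h2, hC3, hC3t, ?_, ?_⟩
  · rw [trace_mul_C3]
    by_cases hc : (A : M2) 1 0 = 0
    · rw [hc, add_zero]
      rcases hAo with h | h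
      · exact h
      · exact absurd hc h
    · have hc1 : (B : M2) 1 0 = 0 := by
        by_contra h
        exact h1 ⟨hc, h⟩
      have hb1 : (B : M2) 0 1 ≠ 0 := by
        rcases hBo with h | h
        · exact h
        · exact absurd hc1 h
      have hb : (A : M2) 0 1 = 0 := by
        by_contra h
        exact h1' ⟨h, hb1⟩
      rw [hb, zero_add]
      exact hc
  · rw [trace_C3_mul]
    by_cases hc : (B : M2) 1 0 = 0
    · rw [hc, add_zero]
      rcases hBo with h | h
      · exact h
      · exact absurd hc h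
    · have hc1 : (A : M2) 1 0 = 0 := by
        by_contra h
        exact h1 ⟨h, hc⟩
      have hb1 : (A : M2) 0 1 ≠ 0 := by
        rcases hAo with h | h
        · exact h
        · exact absurd hc1 h
      have hb : (B : M2) 0 1 = 0 := by
        by_contra h
        exact h1' ⟨hb1, h⟩
      rw [hb, zero_add]
      exact hc

/-- **The common neighbour in `PSL₂(q)`, `q` even.** -/
theorem exists_mid_even (h2 : (2 : F) = 0) (x y : PSL2)
    (hx : orderOf x = 2) (hy : orderOf y = 2) :
    ∃ z : PSL2, orderOf z = 2 ∧ z ≠ x ∧ Odd (orderOf (x * z)) ∧ Odd (orderOf (z * y)) := by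
  obtain ⟨A, rfl⟩ := pr_surjective x
  obtain ⟨B, rfl⟩ := pr_surjective y
  rw [orderOf_pr_two h2] at hx hy
  have hA1 : A ≠ 1 := by
    rintro rfl
    rw [orderOf_one] at hx
    omega
  have hB1 : B ≠ 1 := by
    rintro rfl
    rw [orderOf_one] at hy
    omega
  have hAt := trace_zero_of_orderOf_two h2 A hx
  have hBt := trace_zero_of_orderOf_two h2 B hy
  obtain ⟨C, hC1, hCt, hAC, hCB⟩ := exists_common_even h2 A B hA1 hB1 hAt hBt
  refine ⟨pr C, ?_, ?_, ?_, ?_⟩
  · rw [orderOf_pr_two h2]
    exact orderOf_two_of_trace_zero h2 C hCt hC1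
  · intro h
    have hCA : C = A := Cfsg.Agent.Lib.H5.PSL2Spectrum.pr_injective_two h2 h
    apply hAC
    rw [hCA, mul_self_of_trace h2 A hAt, Matrix.SpecialLinearGroup.coe_one, Matrix.trace_one,
      Fintype.card_fin]
    push_cast
    exact h2
  · rw [← map_mul, orderOf_pr_two h2]
    exact odd_orderOf_of_trace_ne h2 _ hAC
  · rw [← map_mul, orderOf_pr_two h2]
    exact odd_orderOf_of_trace_ne h2 _ hCB

/-- all involutions are conjugate, `q` even -/
theorem involutions_isConj_even (h2 : (2 : F) = 0) (x y : PSL2)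
    (hx : orderOf x = 2) (hy : orderOf y = 2) : IsConj x y := by
  obtain ⟨A, rfl⟩ := pr_surjective x
  obtain ⟨B, rfl⟩ := pr_surjective y
  have hA1 : pr A ≠ 1 := by
    intro h
    rw [h, orderOf_one] at hx
    omega
  have hB1 : pr B ≠ 1 := by
    intro h
    rw [h, orderOf_one] at hy
    omega
  rw [orderOf_pr_two h2] at hx hy
  have hAt := trace_zero_of_orderOf_two h2 A hx
  have hBt := trace_zero_of_orderOf_two h2 B hy
  apply (pr (F := F)).map_isConj
  exact sl2_isConj_of_trace_of_allSquares (isSquare_all h2) A B (nonScalar_of_pr_ne_one hA1)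
    (nonScalar_of_pr_ne_one hB1) (by rw [hAt, hBt])

/-- two distinct commuting involutions, `q` even -/
theorem exists_nonadj_even (h2 : (2 : F) = 0) (h4 : 4 ≤ Fintype.card F) :
    ∃ x y : PSL2, orderOf x = 2 ∧ orderOf y = 2 ∧ x ≠ y ∧ orderOf (x * y) = 2 ∧
      orderOf (y * x) = 2 := by
  classical
  obtain ⟨lam, hl0, hl1⟩ : ∃ lam : F, lam ≠ 0 ∧ lam ≠ 1 := by
    have : 2 < Fintype.card F := by omega
    obtain ⟨a, b, c, hab, hac, hbc⟩ := Fintype.two_lt_card_iff.mp this
    by_cases ha : a ≠ 0 ∧ a ≠ 1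
    · exact ⟨a, ha⟩
    by_cases hb : b ≠ 0 ∧ b ≠ 1
    · exact ⟨b, hb⟩
    refine ⟨c, ?_, ?_⟩
    · rintro rfl
      push Not at ha hb
      by_cases ha0 : a = 0
      · exact hac ha0
      · by_cases hb0 : b = 0
        · exact hbc hb0
        · exact hab ((ha ha0).trans (hb hb0).symm)
    · rintro rfl
      push Not at ha hb
      by_cases ha0 : a = 0
      · by_cases hb0 : b = 0
        · exact hab (ha0.trans hb0.symm)
        · exact hbc (hb hb0)
      · exact hac (ha ha0)
  obtain ⟨B, hB⟩ : ∃ B : SL2, (B : M2) = !![1, lam; 0, 1] :=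
    ⟨⟨!![1, lam; 0, 1], by simp [Matrix.det_fin_two]⟩, rfl⟩
  have hC1t : ((C1 : SL2) : M2).trace = 0 := by
    simp only [C1, Matrix.trace_fin_two, Matrix.of_apply, Matrix.cons_val', Matrix.cons_val_zero,
      Matrix.cons_val_one, Matrix.cons_val_fin_one]
    linear_combination h2
  have hBt : (B : M2).trace = 0 := by
    rw [hB]
    simp only [Matrix.trace_fin_two, Matrix.of_apply, Matrix.cons_val', Matrix.cons_val_zero,
      Matrix.cons_val_one, Matrix.cons_val_fin_one]
    linear_combination h2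
  have hC1 : (C1 : SL2) ≠ 1 := by
    intro h
    have := congrArg (fun g : SL2 => (g : M2) 0 1) h
    simp [C1] at this
  have hB1 : B ≠ 1 := by
    intro h
    have := congrArg (fun g : SL2 => (g : M2) 0 1) h
    simp only [hB, Matrix.SpecialLinearGroup.coe_one] at this
    simp at this
    exact hl0 this
  have hCB : ((C1 * B : SL2) : M2) = !![1, lam + 1; 0, 1] := by
    rw [Matrix.SpecialLinearGroup.coe_mul, hB]
    ext i j
    fin_cases i <;> fin_cases j <;> simp [C1, Matrix.mul_apply, Fin.sum_univ_two]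
  have hBC : ((B * C1 : SL2) : M2) = !![1, lam + 1; 0, 1] := by
    rw [Matrix.SpecialLinearGroup.coe_mul, hB]
    ext i j
    fin_cases i <;> fin_cases j <;> simp [C1, Matrix.mul_apply, Fin.sum_univ_two, add_comm]
  have hl : lam + 1 ≠ 0 := by
    intro h
    apply hl1
    have : lam = -1 := by linear_combination h
    rw [this, neg_eq h2]
  have hne : ∀ M : SL2, (M : M2) = !![1, lam + 1; 0, 1] → M ≠ 1 ∧ (M : M2).trace = 0 := by
    intro M hM
    constructor
    · intro h
      have := congrArg (fun g : SL2 => (g : M2) 0 1) h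
      simp only [hM, Matrix.SpecialLinearGroup.coe_one] at this
      simp at this
      exact hl this
    · rw [hM]
      simp only [Matrix.trace_fin_two, Matrix.of_apply, Matrix.cons_val', Matrix.cons_val_zero,
        Matrix.cons_val_one, Matrix.cons_val_fin_one]
      linear_combination h2
  refine ⟨pr C1, pr B, ?_, ?_, ?_, ?_, ?_⟩
  · rw [orderOf_pr_two h2]; exact orderOf_two_of_trace_zero h2 _ hC1t hC1
  · rw [orderOf_pr_two h2]; exact orderOf_two_of_trace_zero h2 _ hBt hB1
  · intro h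
    have h' : (C1 : SL2) = B := Cfsg.Agent.Lib.H5.PSL2Spectrum.pr_injective_two h2 h
    have := congrArg (fun g : SL2 => (g : M2) 0 1) h'
    simp only [hB] at this
    simp [C1] at this
    exact hl1 this.symm
  · rw [← map_mul, orderOf_pr_two h2]
    exact orderOf_two_of_trace_zero h2 _ (hne _ hCB).2 (hne _ hCB).1
  · rw [← map_mul, orderOf_pr_two h2]
    exact orderOf_two_of_trace_zero h2 _ (hne _ hBC).2 (hne _ hBC).1

end Cfsg.Agent.Lib.H5.OddGraph
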