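import Mathlib

/-!
# A criterion for a graph to be connected of diameter two
-/

set_option autoImplicit false

namespace Cfsg.Agent.Lib.H5.OddGraph

theorem connected_diam_two {V : Type*} (G : SimpleGraph V) [Nonempty V]
    (h2 : ∀ u v : V, u ≠ v → ¬ G.Adj u v → ∃ w, G.Adj u w ∧ G.Adj w v)
    (hex : ∃ u v : V, u ≠ v ∧ ¬ G.Adj u v) : G.Connected ∧ G.diam = 2 := by
  have hw : ∀ u v : V, ∃ p : G.Walk u v, p.length ≤ 2 := by
    intro u v
    by_cases huv : u = v
    · subst huv
      exact ⟨SimpleGraph.Walk.nil, by simp⟩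
    by_cases hadj : G.Adj u v
    · exact ⟨SimpleGraph.Walk.cons hadj SimpleGraph.Walk.nil, by simp⟩
    · obtain ⟨w, h1, h2'⟩ := h2 u v huv hadj
      exact ⟨SimpleGraph.Walk.cons h1 (SimpleGraph.Walk.cons h2' SimpleGraph.Walk.nil), by simp⟩
  have hconn : G.Connected := by
    rw [SimpleGraph.connected_iff]
    refine ⟨?_, inferInstance⟩
    intro u v
    obtain ⟨p, -⟩ := hw u v
    exact ⟨p⟩
  refine ⟨hconn, ?_⟩
  have hle : G.ediam ≤ 2 := by
    apply SimpleGraph.ediam_le_of_edist_le
    intro u v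
    obtain ⟨p, hp⟩ := hw u v
    calc G.edist u v ≤ (p.length : ℕ∞) := SimpleGraph.edist_le p
      _ ≤ ((2 : ℕ) : ℕ∞) := by exact_mod_cast hp
      _ = 2 := rfl
  have hge : (2 : ℕ∞) ≤ G.ediam := by
    obtain ⟨u, v, huv, hadj⟩ := hex
    have h0 : G.edist u v ≠ 0 := fun h => huv (SimpleGraph.edist_eq_zero_iff.mp h)
    have h1 : G.edist u v ≠ 1 := fun h => hadj (SimpleGraph.edist_eq_one_iff_adj.mp h)
    have hd : (2 : ℕ∞) ≤ G.edist u v := by
      generalize G.edist u v = d at h0 h1
      induction d using ENat.recTopCoe with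
      | top => exact le_top
      | coe n =>
        have h0' : n ≠ 0 := by rintro rfl; exact h0 rfl
        have h1' : n ≠ 1 := by rintro rfl; exact h1 rfl
        have : 2 ≤ n := by omega
        exact_mod_cast this
    exact hd.trans SimpleGraph.edist_le_ediam
  have heq : G.ediam = 2 := le_antisymm hle hge
  rw [SimpleGraph.diam, heq]
  rfl

end Cfsg.Agent.Lib.H5.OddGraph
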