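import Mathlib
import Cfsg.Agent.Lib.H5.PSL2Spectrum
import Cfsg.Agent.Lib.H5.SL2Four
import Cfsg.Agent.Lib.H5.OddGraph.Conic

/-!
# Products of involutions of `PSL₂(q)`, `q` odd

For two distinct involutions `x`, `y` there is an involution `z ≠ x` such that `x z` and `z y` have
odd order.
-/

set_option autoImplicit false
set_option linter.style.haveILetI false

namespace Cfsg.Agent.Lib.H5.OddGraph

open Matrix Cfsg.Agent.Lib.H5.PSL2Torus Cfsg.Agent.Lib.H5.PSL2DihOdd Cfsg.Agent.Lib.H12
  Cfsg.Agent.Lib.H5.SL2Four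

variable {F : Type*} [Field F] [Fintype F]

local notation "SL2" => Matrix.SpecialLinearGroup (Fin 2) F
local notation "M2" => Matrix (Fin 2) (Fin 2) F
local notation "PSL2" => Matrix.ProjectiveSpecialLinearGroup (Fin 2) F

/-- a trace `τ` is good if `4 - τ²` is not a non-zero square -/
def Good (τ : F) : Prop := ¬ ∃ s : F, s ≠ 0 ∧ s ^ 2 = 4 - τ ^ 2

omit [Fintype F] in
theorem good_neg {τ : F} (h : Good τ) : Good (-τ) := by
  unfold Good at h ⊢
  rwa [neg_sq]

/-- an element of `SL₂(q)` with good trace has an image of odd order in `PSL₂(q)` -/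
theorem odd_orderOf_pr (hodd : Odd (Fintype.card F)) (g : SL2) (hg : Good ((g : M2).trace)) :
    Odd (orderOf (pr g)) := by
  classical
  have h2 : (2 : F) ≠ 0 := two_ne_zero_of_odd hodd
  by_cases h4 : (g : M2).trace ^ 2 = 4
  · by_cases h1 : pr g = 1
    · rw [h1, orderOf_one]; exact odd_one
    · obtain ⟨p, hp⟩ := CharP.exists F
      haveI := hp
      have hpp : p.Prime := CharP.char_is_prime F p
      haveI : Fact p.Prime := ⟨hpp⟩
      have hpodd : Odd p := by
        have hpq : p ∣ Fintype.card F := Cfsg.Agent.Lib.H5.PSL2DihOddMax.char_dvd_card p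
        exact Odd.of_dvd_nat hodd hpq
      have h4' : ((g : M2).trace - 2) * ((g : M2).trace + 2) = 0 := by linear_combination h4
      rcases mul_eq_zero.mp h4' with h | h
      · have hns : NonScalar (g : M2) := nonScalar_of_pr_ne_one h1
        rw [Cfsg.Agent.Lib.H5.PSL2Spectrum.orderOf_pr_of_trace_two p hns (by linear_combination h) h1]
        exact hpodd
      · have hg' : pr (-g) = pr g := ((pr_eq_pr_iff g (-g)).mpr (Or.inr rfl)).symm
        have hns : NonScalar ((-g : SL2) : M2) := nonScalar_of_pr_ne_one (hg' ▸ h1)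
        rw [← hg', Cfsg.Agent.Lib.H5.PSL2Spectrum.orderOf_pr_of_trace_two p hns _ (hg' ▸ h1)]
        · exact hpodd
        · rw [Matrix.SpecialLinearGroup.coe_neg, Matrix.trace_neg]
          linear_combination -h
  · -- regular semisimple
    have hne : (4 : F) - (g : M2).trace ^ 2 ≠ 0 := by
      intro h
      apply h4
      linear_combination -h
    have hns : ¬ IsSquare ((4 : F) - (g : M2).trace ^ 2) := by
      rintro ⟨r, hr⟩
      apply hg
      refine ⟨r, ?_, by rw [hr]; ring⟩
      rintro rfl
      apply hne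
      rw [hr]; ring
    have hmem : pr g ∈ torus g :=
      (pr_mem_torus_iff g g).mpr (Subgroup.mem_centralizer_singleton_iff.mpr rfl)
    have hd : orderOf (pr g) ∣ Nat.card (torus g) := by
      have := orderOf_dvd_natCard (⟨pr g, hmem⟩ : torus g)
      rwa [Subgroup.orderOf_mk] at this
    have hq := Nat.odd_iff.mp hodd
    by_cases hm : IsSquare (-1 : F)
    · have hq4 : Fintype.card F % 4 ≠ 3 := FiniteField.isSquare_neg_one_iff.mp hm
      have hnsq : ¬ IsSquare ((g : M2).trace ^ 2 - 4) := by
        rintro ⟨r, hr⟩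
        obtain ⟨i, hi⟩ := hm
        apply hns
        refine ⟨i * r, ?_⟩
        have : (4 : F) - (g : M2).trace ^ 2 = (-1) * ((g : M2).trace ^ 2 - 4) := by ring
        rw [this, hr, hi]; ring
      have hc := card_torus_nonsplit hodd h4 hnsq
      have : Odd (Nat.card (torus g)) := by
        rw [Nat.odd_iff]; omega
      exact Odd.of_dvd_nat this hd
    · have hq4 : Fintype.card F % 4 = 3 := by
        by_contra h
        exact hm (FiniteField.isSquare_neg_one_iff.mpr h)
      have hsq : IsSquare ((g : M2).trace ^ 2 - 4) := by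
        have h1 : quadraticChar F (-1) = -1 := quadraticChar_neg_one_iff_not_isSquare.mpr hm
        have h2' : quadraticChar F ((4 : F) - (g : M2).trace ^ 2) = -1 :=
          quadraticChar_neg_one_iff_not_isSquare.mpr hns
        have hne' : (g : M2).trace ^ 2 - 4 ≠ 0 := by
          intro h
          apply h4
          linear_combination h
        rw [← quadraticChar_one_iff_isSquare hne']
        have : (g : M2).trace ^ 2 - 4 = (-1) * ((4 : F) - (g : M2).trace ^ 2) := by ring
        rw [this, map_mul, h1, h2']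
        norm_num
      have hc := card_torus_split hodd h4 hsq
      have : Odd (Nat.card (torus g)) := by
        rw [Nat.odd_iff]; omega
      exact Odd.of_dvd_nat this hd

/-- a good trace different from `± 2` -/
theorem exists_good_trace (hodd : Odd (Fintype.card F)) (h4 : 4 ≤ Fintype.card F) :
    ∃ τ : F, τ ^ 2 ≠ 4 ∧ Good τ := by
  by_cases hm : IsSquare (-1 : F)
  · obtain ⟨g, ht, hs⟩ := exists_nonsplit (F := F) hodd
    refine ⟨(g : M2).trace, ht, ?_⟩
    rintro ⟨s, -, hs'⟩
    apply hs
    obtain ⟨i, hi⟩ := hm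
    refine ⟨i * s, ?_⟩
    have : (g : M2).trace ^ 2 - 4 = (-1) * s ^ 2 := by rw [hs']; ring
    rw [this, hi]; ring
  · obtain ⟨g, ht, hs, -⟩ := exists_split (F := F) h4
    refine ⟨(g : M2).trace, ht, ?_⟩
    rintro ⟨s, hs0, hs'⟩
    apply hm
    obtain ⟨r, hr⟩ := hs
    have hr0 : r ≠ 0 := by
      rintro rfl
      apply ht
      linear_combination hr
    refine ⟨s / r, ?_⟩
    rw [div_mul_div_comm, eq_div_iff (mul_ne_zero hr0 hr0)]
    linear_combination hr - hs'

/-- the standard element of square `-1` -/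
def Jm : SL2 := ⟨!![0, 1; -1, 0], by simp [Matrix.det_fin_two]⟩

omit [Fintype F] in
theorem Jm_mul_self : (Jm : SL2) * Jm = -1 := by
  apply Subtype.ext
  rw [Matrix.SpecialLinearGroup.coe_mul, Matrix.SpecialLinearGroup.coe_neg,
    Matrix.SpecialLinearGroup.coe_one]
  ext i j
  fin_cases i <;> fin_cases j <;> simp [Jm, Matrix.mul_apply, Fin.sum_univ_two]

/-- the common neighbour, for `A = Jm` -/
theorem exists_common_J (hodd : Odd (Fintype.card F)) (h4 : 4 ≤ Fintype.card F) (B : SL2)
    (hB : (B : M2).trace = 0) (hBJ : B ≠ Jm) (hBJ' : B ≠ -Jm) :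
    ∃ C : SL2, (C : M2).trace = 0 ∧ ((Jm * C : SL2) : M2).trace ^ 2 ≠ 4 ∧
      Good (((Jm * C : SL2) : M2).trace) ∧ Good (((C * B : SL2) : M2).trace) := by
  classical
  have h2 : (2 : F) ≠ 0 := two_ne_zero_of_odd hodd
  obtain ⟨τ, hτ4, hτ⟩ := exists_good_trace hodd h4
  have hB11 : (B : M2) 1 1 = - (B : M2) 0 0 := by
    rw [Matrix.trace_fin_two] at hB
    linear_combination hB
  have hdet : (B : M2) 0 0 * (B : M2) 1 1 - (B : M2) 0 1 * (B : M2) 1 0 = 1 := by
    have := B.det_coe
    rwa [Matrix.det_fin_two] at this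
  have hαβ : (B : M2) 0 0 ≠ 0 ∨ ((B : M2) 0 1 + (B : M2) 1 0) / 2 ≠ 0 := by
    by_contra hcon
    push Not at hcon
    obtain ⟨h00, h01⟩ := hcon
    have h10 : (B : M2) 1 0 = - (B : M2) 0 1 := by
      have : (B : M2) 0 1 + (B : M2) 1 0 = 0 := by
        rcases div_eq_zero_iff.mp h01 with h | h
        · exact h
        · exact absurd h h2
      linear_combination this
    have h11 : (B : M2) 1 1 = 0 := by rw [hB11, h00, neg_zero]
    rw [h00, h11, h10] at hdet
    have hsq : ((B : M2) 0 1 - 1) * ((B : M2) 0 1 + 1) = 0 := by linear_combination hdet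
    rcases mul_eq_zero.mp hsq with h | h
    · apply hBJ
      apply Subtype.ext
      ext i j
      fin_cases i <;> fin_cases j
      · simpa [Jm] using h00
      · simp only [Jm, Fin.zero_eta, Fin.mk_one, Matrix.of_apply, Matrix.cons_val', Matrix.cons_val_one,
          Matrix.cons_val_zero, Matrix.cons_val_fin_one]
        linear_combination h
      · simp only [Jm, Fin.zero_eta, Fin.mk_one, Matrix.of_apply, Matrix.cons_val', Matrix.cons_val_one,
          Matrix.cons_val_zero, Matrix.cons_val_fin_one]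
        rw [h10]; linear_combination -h
      · simpa [Jm] using h11
    · apply hBJ'
      apply Subtype.ext
      rw [Matrix.SpecialLinearGroup.coe_neg]
      ext i j
      fin_cases i <;> fin_cases j
      · simpa [Jm] using h00
      · simp only [Jm, Fin.zero_eta, Fin.mk_one, Matrix.neg_apply, Matrix.of_apply, Matrix.cons_val',
          Matrix.cons_val_one, Matrix.cons_val_zero, Matrix.cons_val_fin_one]
        linear_combination h
      · simp only [Jm, Fin.zero_eta, Fin.mk_one, Matrix.neg_apply, Matrix.of_apply, Matrix.cons_val',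
          Matrix.cons_val_one, Matrix.cons_val_zero, Matrix.cons_val_fin_one]
        rw [h10]; linear_combination -h
      · simpa [Jm] using h11
  have hδ : τ ^ 2 - 4 ≠ 0 := by
    intro h
    apply hτ4
    linear_combination h
  obtain ⟨u, v, huv, hgood⟩ := exists_good (F := F) (Nat.odd_iff.mp hodd) h2 hδ hαβ
    (τ * ((B : M2) 0 1 - (B : M2) 1 0) / 2)
  have hdetC : (!![u / 2, (v - τ) / 2; (v + τ) / 2, -(u / 2)] : M2).det = 1 := by
    rw [Matrix.det_fin_two_of]
    field_simp
    linear_combination -huv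
  obtain ⟨C, hC⟩ : ∃ C : SL2, (C : M2) = !![u / 2, (v - τ) / 2; (v + τ) / 2, -(u / 2)] :=
    ⟨⟨_, hdetC⟩, rfl⟩
  have hJC : ((Jm * C : SL2) : M2).trace = τ := by
    rw [Matrix.SpecialLinearGroup.coe_mul, Matrix.trace_fin_two, hC]
    simp only [Jm, Matrix.mul_apply, Fin.sum_univ_two, Matrix.of_apply, Matrix.cons_val',
      Matrix.cons_val_zero, Matrix.cons_val_one, Matrix.cons_val_fin_one]
    field_simp
    ring
  refine ⟨C, ?_, ?_, ?_, ?_⟩
  · rw [hC]; simp [Matrix.trace_fin_two]
  · rw [hJC]
    exact hτ4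
  · rw [hJC]
    exact hτ
  · have : ((C * B : SL2) : M2).trace =
        (B : M2) 0 0 * u + ((B : M2) 0 1 + (B : M2) 1 0) / 2 * v +
          τ * ((B : M2) 0 1 - (B : M2) 1 0) / 2 := by
      rw [Matrix.SpecialLinearGroup.coe_mul, Matrix.trace_fin_two, hC]
      simp only [Matrix.mul_apply, Fin.sum_univ_two, Matrix.of_apply, Matrix.cons_val',
        Matrix.cons_val_zero, Matrix.cons_val_one, Matrix.cons_val_fin_one]
      rw [hB11]
      field_simp
      ring
    rw [this]
    exact hgood

end Cfsg.Agent.Lib.H5.OddGraph
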