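import Mathlib
import Cfsg.Agent.Lib.H5.OddGraph.OddChar
import Cfsg.Agent.Lib.H5.PSL2Klein
import Cfsg.Agent.Lib.H5.SL2Traces

/-!
# The odd-product relation on involutions of `PSL₂(q)`, `q` odd
-/

set_option autoImplicit false
set_option linter.style.haveILetI false

namespace Cfsg.Agent.Lib.H5.OddGraph

open Matrix Cfsg.Agent.Lib.H5.PSL2Torus Cfsg.Agent.Lib.H5.PSL2DihOdd Cfsg.Agent.Lib.H12
  Cfsg.Agent.Lib.H5.SL2Four

variable {F : Type*} [Field F] [Fintype F]

local notation "SL2" => Matrix.SpecialLinearGroup (Fin 2) F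
local notation "M2" => Matrix (Fin 2) (Fin 2) F
local notation "PSL2" => Matrix.ProjectiveSpecialLinearGroup (Fin 2) F

omit [Fintype F] in
theorem trace_conj (c M : SL2) : ((c⁻¹ * M * c : SL2) : M2).trace = (M : M2).trace := by
  rw [Matrix.SpecialLinearGroup.coe_mul, Matrix.trace_mul_comm, ← Matrix.SpecialLinearGroup.coe_mul,
    ← mul_assoc, mul_inv_cancel, one_mul]

omit [Fintype F] in
theorem mul_self_of_trace_zero (C : SL2) (h : (C : M2).trace = 0) : C * C = -1 := by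
  apply Subtype.ext
  rw [Matrix.SpecialLinearGroup.coe_mul, Cfsg.Agent.Lib.H5.SL2Traces.cayley, h, zero_smul, zero_sub,
    Matrix.SpecialLinearGroup.coe_neg, Matrix.SpecialLinearGroup.coe_one]

/-- the common neighbour at the level of `SL₂(q)` -/
theorem exists_common (hodd : Odd (Fintype.card F)) (h4 : 4 ≤ Fintype.card F) (A B : SL2)
    (hA : A * A = -1) (hB : B * B = -1) (hBA : B ≠ A) (hBA' : B ≠ -A) :
    ∃ C : SL2, C * C = -1 ∧ ((A * C : SL2) : M2).trace ^ 2 ≠ 4 ∧
      Good (((A * C : SL2) : M2).trace) ∧ Good (((C * B : SL2) : M2).trace) := by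
  obtain ⟨c, hc⟩ := isConj_iff.mp (isConj_of_mul_self hodd hA (Jm_mul_self (F := F)))
  have hA' : A = c⁻¹ * Jm * c := by rw [← hc]; group
  have hB' : (c * B * c⁻¹) * (c * B * c⁻¹) = -1 := by
    have : (c * B * c⁻¹) * (c * B * c⁻¹) = c * (B * B) * c⁻¹ := by group
    rw [this, hB, mul_neg, mul_one, neg_mul, mul_inv_cancel]
  have ht : ((c * B * c⁻¹ : SL2) : M2).trace = 0 := trace_eq_zero_of_mul_self _ hB'
  have hne : c * B * c⁻¹ ≠ Jm := by
    intro h
    apply hBA
    rw [hA', ← h]; group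
  have hne' : c * B * c⁻¹ ≠ -Jm := by
    intro h
    apply hBA'
    have : B = c⁻¹ * (c * B * c⁻¹) * c := by group
    rw [this, h, mul_neg, neg_mul, hA']
  obtain ⟨C', hC't, hC'4, hC'g, hC'g'⟩ := exists_common_J hodd h4 (c * B * c⁻¹) ht hne hne'
  refine ⟨c⁻¹ * C' * c, ?_, ?_, ?_, ?_⟩
  · have : (c⁻¹ * C' * c) * (c⁻¹ * C' * c) = c⁻¹ * (C' * C') * c := by group
    rw [this, mul_self_of_trace_zero C' hC't, mul_neg, mul_one, neg_mul, inv_mul_cancel]
  · have : A * (c⁻¹ * C' * c) = c⁻¹ * (Jm * C') * c := by rw [hA']; group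
    rw [this, trace_conj]
    exact hC'4
  · have : A * (c⁻¹ * C' * c) = c⁻¹ * (Jm * C') * c := by rw [hA']; group
    rw [this, trace_conj]
    exact hC'g
  · have : (c⁻¹ * C' * c) * B = c⁻¹ * (C' * (c * B * c⁻¹)) * c := by group
    rw [this, trace_conj]
    exact hC'g'

/-- **The common neighbour in `PSL₂(q)`, `q` odd.** -/
theorem exists_mid_odd (hodd : Odd (Fintype.card F)) (h4 : 4 ≤ Fintype.card F) (x y : PSL2)
    (hx : orderOf x = 2) (hy : orderOf y = 2) (hxy : x ≠ y) :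
    ∃ z : PSL2, orderOf z = 2 ∧ z ≠ x ∧ Odd (orderOf (x * z)) ∧ Odd (orderOf (z * y)) := by
  have h2 : (2 : F) ≠ 0 := two_ne_zero_of_odd hodd
  obtain ⟨A, hA, rfl⟩ := exists_lift_of_orderOf_two h2 x hx
  obtain ⟨B, hB, rfl⟩ := exists_lift_of_orderOf_two h2 y hy
  have hBA : B ≠ A := by
    rintro rfl
    exact hxy rfl
  have hBA' : B ≠ -A := by
    rintro rfl
    apply hxy
    exact (Cfsg.Agent.Lib.H5.PSL2Klein.mk_eq_mk_iff A (-A)).mpr (Or.inr rfl)
  obtain ⟨C, hC, hC4, hCg, hCg'⟩ := exists_common hodd h4 A B hA hB hBA hBA'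
  refine ⟨QuotientGroup.mk C, Cfsg.Agent.Lib.H5.PSL2Klein.orderOf_mk_of_mul_self h2 hC, ?_, ?_, ?_⟩
  · intro h
    rcases (Cfsg.Agent.Lib.H5.PSL2Klein.mk_eq_mk_iff C A).mp h with h | h
    · apply hC4
      rw [h, hC, Matrix.SpecialLinearGroup.coe_neg, Matrix.SpecialLinearGroup.coe_one,
        Matrix.trace_neg, Matrix.trace_one, Fintype.card_fin]
      push_cast
      ring
    · apply hC4
      have hCA : C = -A := by rw [h, neg_neg]
      have : A * C = 1 := by rw [hCA, mul_neg, hA, neg_neg]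
      rw [this, Matrix.SpecialLinearGroup.coe_one, Matrix.trace_one, Fintype.card_fin]
      push_cast
      ring
  · have : (QuotientGroup.mk A : PSL2) * QuotientGroup.mk C = pr (A * C) := rfl
    rw [this]
    exact odd_orderOf_pr hodd _ hCg
  · have : (QuotientGroup.mk C : PSL2) * QuotientGroup.mk B = pr (C * B) := rfl
    rw [this]
    exact odd_orderOf_pr hodd _ hCg'

/-- two distinct commuting involutions -/
theorem exists_nonadj_odd (hodd : Odd (Fintype.card F)) :
    ∃ x y : PSL2, orderOf x = 2 ∧ orderOf y = 2 ∧ x ≠ y ∧ orderOf (x * y) = 2 ∧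
      orderOf (y * x) = 2 := by
  have h2 : (2 : F) ≠ 0 := two_ne_zero_of_odd hodd
  obtain ⟨a, b, hab⟩ := exists_sq_add_sq (F := F) (Nat.odd_iff.mp hodd) (-1)
  have hdet : (!![a, b; b, -a] : M2).det = 1 := by
    rw [Matrix.det_fin_two_of]
    linear_combination -hab
  obtain ⟨K, hK⟩ : ∃ K : SL2, (K : M2) = !![a, b; b, -a] := ⟨⟨_, hdet⟩, rfl⟩
  have hKt : (K : M2).trace = 0 := by rw [hK]; simp [Matrix.trace_fin_two]
  have hKK := mul_self_of_trace_zero K hKt
  have hJKt : ((Jm * K : SL2) : M2).trace = 0 := by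
    rw [Matrix.SpecialLinearGroup.coe_mul, Matrix.trace_fin_two, hK]
    simp [Jm, Matrix.mul_apply, Fin.sum_univ_two]
  have hKJt : ((K * Jm : SL2) : M2).trace = 0 := by
    rw [Matrix.SpecialLinearGroup.coe_mul, Matrix.trace_fin_two, hK]
    simp [Jm, Matrix.mul_apply, Fin.sum_univ_two]
  refine ⟨QuotientGroup.mk Jm, QuotientGroup.mk K,
    Cfsg.Agent.Lib.H5.PSL2Klein.orderOf_mk_of_mul_self h2 Jm_mul_self,
    Cfsg.Agent.Lib.H5.PSL2Klein.orderOf_mk_of_mul_self h2 hKK, ?_, ?_, ?_⟩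
  · intro h
    have h01 : ∀ M : SL2, (M = K) → (M : M2) 0 1 = (M : M2) 1 0 := by
      rintro M rfl
      rw [hK]; simp
    rcases (Cfsg.Agent.Lib.H5.PSL2Klein.mk_eq_mk_iff Jm K).mp h with h | h
    · have := h01 Jm h.symm
      simp only [Jm, Matrix.of_apply, Matrix.cons_val', Matrix.cons_val_zero, Matrix.cons_val_one,
        Matrix.cons_val_fin_one] at this
      apply h2
      linear_combination this
    · have := h01 (-Jm) h.symm
      rw [Matrix.SpecialLinearGroup.coe_neg] at this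
      simp only [Jm, Matrix.neg_apply, Matrix.of_apply,
        Matrix.cons_val', Matrix.cons_val_zero, Matrix.cons_val_one, Matrix.cons_val_fin_one] at this
      apply h2
      linear_combination -this
  · have : (QuotientGroup.mk Jm : PSL2) * QuotientGroup.mk K = QuotientGroup.mk (Jm * K) := rfl
    rw [this]
    exact Cfsg.Agent.Lib.H5.PSL2Klein.orderOf_mk_of_mul_self h2 (mul_self_of_trace_zero _ hJKt)
  · have : (QuotientGroup.mk K : PSL2) * QuotientGroup.mk Jm = QuotientGroup.mk (K * Jm) := rfl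
    rw [this]
    exact Cfsg.Agent.Lib.H5.PSL2Klein.orderOf_mk_of_mul_self h2 (mul_self_of_trace_zero _ hKJt)

end Cfsg.Agent.Lib.H5.OddGraph
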